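import Mathlib.RingTheory.Filtration
import Mathlib.RingTheory.Flat.Basic
import Mathlib.LinearAlgebra.TensorProduct.Tower

/-!
# Artin–Rees constants under congruent perturbations of a complex
-/

universe u

noncomputable section

namespace GrothLib.ARCongr

variable {A : Type u} [CommRing A] (I : Ideal A)
variable {L M N : Type u} [AddCommGroup L] [Module A L] [AddCommGroup M] [Module A M]
  [AddCommGroup N] [Module A N]

/-- `c` works for `g` in the Artin–Rees lemma. -/
def Works (g : M →ₗ[A] N) (c : ℕ) : Prop :=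
  ∀ n : ℕ, c ≤ n → LinearMap.range g ⊓ (I ^ n • (⊤ : Submodule A N)) ≤
    Submodule.map g (I ^ (n - c) • (⊤ : Submodule A M))

theorem pow_antitone {a b : ℕ} (h : b ≤ a) :
    I ^ a • (⊤ : Submodule A M) ≤ I ^ b • ⊤ :=
  Submodule.smul_mono_left (Ideal.pow_le_pow_right h)

theorem map_pow_smul_le (g : M →ₗ[A] N) {d : ℕ} (hg : ∀ y, g y ∈ I ^ d • (⊤ : Submodule A N))
    (k : ℕ) {y : M} (hy : y ∈ I ^ k • (⊤ : Submodule A M)) :
    g y ∈ I ^ (k + d) • (⊤ : Submodule A N) := by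
  have h1 : g y ∈ Submodule.map g (I ^ k • ⊤) := Submodule.mem_map_of_mem hy
  rw [Submodule.map_smul''] at h1
  have h2 : Submodule.map g ⊤ ≤ I ^ d • (⊤ : Submodule A N) := by
    rintro _ ⟨z, -, rfl⟩
    exact hg z
  rw [pow_add, mul_smul]
  exact Submodule.smul_mono le_rfl h2 h1

variable {f f' : L →ₗ[A] M} {g g' : M →ₗ[A] N} {c : ℕ}
variable (hgf' : g' ∘ₗ f' = 0) (hf : Works I f c) (hg : Works I g c) (hex : Function.Exact f g)
  (hff' : ∀ x : L, f x - f' x ∈ I ^ (c + 1) • (⊤ : Submodule A M))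
  (hgg' : ∀ y : M, g y - g' y ∈ I ^ (c + 1) • (⊤ : Submodule A N))

include hgf' hf hg hex hff' hgg'

theorem exists_sub_mem {n : ℕ} (y : M) (hy : g' y ∈ I ^ n • (⊤ : Submodule A N)) :
    ∀ a, a ≤ n - c → ∃ x, y - f' x ∈ I ^ a • (⊤ : Submodule A M) := by
  intro a
  induction a with
  | zero => exact fun _ => ⟨0, by simp⟩
  | succ a ih =>
    intro ha
    obtain ⟨x, hx⟩ := ih (by omega)
    set w := y - f' x
    have hw : g' w = g' y := by
      rw [map_sub, ← LinearMap.comp_apply, hgf', LinearMap.zero_apply, sub_zero]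
    have h1 : g w ∈ I ^ (a + c + 1) • (⊤ : Submodule A N) := by
      have e : g w = g' w + (g - g') w := by simp
      rw [e, hw]
      refine add_mem (pow_antitone I (by omega) hy) ?_
      exact pow_antitone I (by omega) (map_pow_smul_le I (g - g') (d := c + 1) hgg' a hx)
    obtain ⟨z, hz, hzw⟩ := hg (a + c + 1) (by omega) ⟨⟨w, rfl⟩, h1⟩
    rw [show a + c + 1 - c = a + 1 by omega] at hz
    obtain ⟨u, hu⟩ := (hex (w - z)).1 (by rw [map_sub, hzw, sub_self])
    have hu' : f u ∈ I ^ a • (⊤ : Submodule A M) :=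
      hu ▸ sub_mem hx (pow_antitone I (Nat.le_succ a) hz)
    obtain ⟨v, hv, hvu⟩ : ∃ v, (f - f') v ∈ I ^ (a + 1) • (⊤ : Submodule A M) ∧ f v = f u := by
      by_cases hac : c ≤ a
      · obtain ⟨v, hv, hvu⟩ := hf a hac ⟨⟨u, rfl⟩, hu'⟩
        exact ⟨v, pow_antitone I (by omega) (map_pow_smul_le I (f - f') (d := c + 1) hff' _ hv), hvu⟩
      · exact ⟨u, pow_antitone I (by omega) (hff' u), rfl⟩
    refine ⟨x + v, ?_⟩
    have e : y - f' (x + v) = z + (f - f') v := by
      rw [map_add, LinearMap.sub_apply, hvu, hu]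
      simp only [w]
      abel
    rw [e]
    exact add_mem hz hv

theorem works_congr : Works I g' c := by
  rintro n - _ ⟨⟨y, rfl⟩, hy⟩
  obtain ⟨x, hx⟩ := exists_sub_mem I hgf' hf hg hex hff' hgg' y hy (n - c) le_rfl
  exact ⟨y - f' x, hx, by rw [map_sub, ← LinearMap.comp_apply, hgf', LinearMap.zero_apply, sub_zero]⟩

theorem exact_congr [IsNoetherianRing A] [Module.Finite A M] (hI : I ≤ Ideal.jacobson ⊥) :
    Function.Exact f' g' := by
  intro y
  refine ⟨fun hy => ?_, ?_⟩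
  swap
  · rintro ⟨x, rfl⟩
    rw [← LinearMap.comp_apply, hgf', LinearMap.zero_apply]
  have h : (LinearMap.range f').mkQ y ∈
      (⨅ n : ℕ, I ^ n • ⊤ : Submodule A (M ⧸ LinearMap.range f')) := by
    rw [Submodule.mem_iInf]
    intro m
    obtain ⟨x, hx⟩ := exists_sub_mem I hgf' hf hg hex hff' hgg' y
      (n := m + c) (by rw [hy]; exact zero_mem _) m (by omega)
    have e : (LinearMap.range f').mkQ y = (LinearMap.range f').mkQ (y - f' x) := by
      have h0 : (LinearMap.range f').mkQ (f' x) = 0 :=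
        (Submodule.Quotient.mk_eq_zero _).2 (LinearMap.mem_range_self f' x)
      rw [map_sub, h0, sub_zero]
    rw [e]
    have := Submodule.mem_map_of_mem (f := (LinearMap.range f').mkQ) hx
    rw [Submodule.map_smul'', Submodule.map_top, Submodule.range_mkQ] at this
    exact this
  rw [Ideal.iInf_pow_smul_eq_bot_of_le_jacobson _ hI, Submodule.mem_bot] at h
  exact (Submodule.Quotient.mk_eq_zero _).1 h

theorem filtration_le (n : ℕ) :
    I ^ (n + 1) • (⊤ : Submodule A N) ⊔ (LinearMap.range g ⊓ I ^ n • ⊤) ≤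
      I ^ (n + 1) • (⊤ : Submodule A N) ⊔ (LinearMap.range g' ⊓ I ^ n • ⊤) ∧
    I ^ (n + 1) • (⊤ : Submodule A N) ⊔ (LinearMap.range g' ⊓ I ^ n • ⊤) ≤
      I ^ (n + 1) • (⊤ : Submodule A N) ⊔ (LinearMap.range g ⊓ I ^ n • ⊤) := by
  have hg' := works_congr I hgf' hf hg hex hff' hgg'
  have key : ∀ (φ ψ : M →ₗ[A] N), Works I φ c →
      (∀ y, φ y - ψ y ∈ I ^ (c + 1) • (⊤ : Submodule A N)) →
      I ^ (n + 1) • (⊤ : Submodule A N) ⊔ (LinearMap.range φ ⊓ I ^ n • ⊤) ≤
        I ^ (n + 1) • (⊤ : Submodule A N) ⊔ (LinearMap.range ψ ⊓ I ^ n • ⊤) := by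
    intro φ ψ hφ hd
    refine sup_le le_sup_left ?_
    rintro _ ⟨⟨y, rfl⟩, hy⟩
    obtain ⟨v, hv, hvy⟩ : ∃ v, (φ - ψ) v ∈ I ^ (n + 1) • (⊤ : Submodule A N) ∧ φ v = φ y := by
      by_cases hnc : c ≤ n
      · obtain ⟨v, hv, hvy⟩ := hφ n hnc ⟨⟨y, rfl⟩, hy⟩
        exact ⟨v, pow_antitone I (by omega) (map_pow_smul_le I (φ - ψ) (d := c + 1) hd _ hv), hvy⟩
      · exact ⟨y, pow_antitone I (by omega) (hd y), rfl⟩
    have e : φ y = (φ - ψ) v + ψ v := by simp [hvy]
    have hψ : ψ v ∈ I ^ n • (⊤ : Submodule A N) := by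
      have e' : ψ v = φ y - (φ - ψ) v := by simp [hvy]
      rw [e']
      exact sub_mem hy (pow_antitone I (Nat.le_succ n) hv)
    rw [e]
    exact Submodule.add_mem_sup hv ⟨⟨v, rfl⟩, hψ⟩
  exact ⟨key g g' hg hgg', key g' g hg' fun y => neg_sub (g y) (g' y) ▸ neg_mem (hgg' y)⟩

end GrothLib.ARCongr

namespace GrothLib.ARCongr

open TensorProduct

variable {A B : Type u} [CommRing A] [CommRing B] [Algebra A B] (I : Ideal A)
variable {M N : Type u} [AddCommGroup M] [Module A M] [AddCommGroup N] [Module A N]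

theorem mem_map_pow_smul_iff (n : ℕ) (z : B ⊗[A] N) :
    z ∈ (I.map (algebraMap A B)) ^ n • (⊤ : Submodule B (B ⊗[A] N)) ↔
      z ∈ LinearMap.range ((I ^ n • ⊤ : Submodule A N).subtype.lTensor B) := by
  rw [← Ideal.map_pow, ← Submodule.restrictScalars_mem A, Ideal.smul_restrictScalars,
    Submodule.restrictScalars_top]
  constructor
  · intro h
    refine Submodule.smul_induction_on h (fun r hr w _ => ?_) fun _ _ => add_mem
    clear * - hr
    induction w using TensorProduct.induction_on with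
    | zero => simp
    | add w w' hw hw' => rw [smul_add]; exact add_mem hw hw'
    | tmul b y =>
      exact ⟨b ⊗ₜ ⟨r • y, Submodule.smul_mem_smul hr trivial⟩, by simp⟩
  · rintro ⟨w, rfl⟩
    induction w using TensorProduct.induction_on with
    | zero => simp
    | add w w' hw hw' => rw [map_add]; exact add_mem hw hw'
    | tmul b y =>
      have h : (TensorProduct.mk A B N b) (y : N) ∈
          Submodule.map (TensorProduct.mk A B N b) (I ^ n • ⊤) := Submodule.mem_map_of_mem y.2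
      rw [Submodule.map_smul''] at h
      exact Submodule.smul_mono le_rfl le_top h

theorem works_baseChange [Module.Flat A B] (f : M →ₗ[A] N) (c : ℕ) (hf : Works I f c) :
    Works (I.map (algebraMap A B)) (f.baseChange B) c := by
  rintro n hn _ ⟨⟨w, rfl⟩, hw⟩
  set W : Submodule A N := I ^ n • ⊤
  rw [SetLike.mem_coe, mem_map_pow_smul_iff] at hw
  have hex0 : Function.Exact (W.subtype.lTensor B) (W.mkQ.lTensor B) :=
    lTensor_exact B (LinearMap.exact_subtype_mkQ W) (Submodule.mkQ_surjective W)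
  have h1 : (W.mkQ ∘ₗ f).lTensor B w = 0 := by
    rw [LinearMap.lTensor_comp_apply]
    exact (hex0 _).2 hw
  obtain ⟨v, rfl⟩ := (Module.Flat.lTensor_exact B
    (LinearMap.exact_subtype_ker_map (W.mkQ ∘ₗ f)) w).1 h1
  clear hw h1
  induction v using TensorProduct.induction_on with
  | zero => exact ⟨0, zero_mem _, by simp⟩
  | add v v' hv hv' => rw [map_add, map_add]; exact add_mem hv hv'
  | tmul b y =>
    obtain ⟨z, hz, hzy⟩ := hf n hn ⟨⟨y, rfl⟩, (Submodule.Quotient.mk_eq_zero W).1 y.2⟩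
    refine ⟨b ⊗ₜ z, (mem_map_pow_smul_iff I _ _).2 ⟨b ⊗ₜ ⟨z, hz⟩, rfl⟩, ?_⟩
    simp [hzy]

end GrothLib.ARCongr
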